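import Groth.Agent.GrSegre.K961.TwoDim
import Groth.Agent.GrSegre.K963.PolyLC
import Groth.Agent.GrLC.K762.AInv
import Groth.Agent.LoccohB.GorBasic
import Groth.Agent.Flat2H.SmoothSection

/-!
# Polynomial rings graded by additive subgroups, and their Veronese subrings

The standard grading of `k[X_1, …, X_s]` in the form required by the statements on Veronese subrings.
-/

set_option autoImplicit false
set_option linter.unusedSectionVars false
universe u
attribute [local instance] MvPolynomial.weightedGradedAlgebra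

namespace K82.VerPoly

open GrLC K961.TwoDim K963.PolyLC K762.Base MvPolynomial

variable (k : Type u) [Field k] (s : ℕ)

/-- the standard grading by additive subgroups -/
noncomputable def gr : ℤ → AddSubgroup (MvPolynomial (Fin s) k) := asg (std k s)

/-- the graded ring -/
noncomputable instance grRing : GradedRing (gr k s) := asgGr (std k s)

theorem mem_gr_iff {n : ℤ} {p : MvPolynomial (Fin s) k} :
    p ∈ gr k s n ↔ ∀ d : Fin s →₀ ℕ, coeff d p ≠ 0 → (d.degree : ℤ) = n :=
  K860.Basic.mem_stdGr n p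

theorem mem_gr_nat {n : ℕ} {p : MvPolynomial (Fin s) k} :
    p ∈ gr k s n ↔ p ∈ homogeneousSubmodule (Fin s) k n := K860.Basic.mem_stdGr_nat n p

theorem gr_neg {n : ℤ} (hn : n < 0) : gr k s n = ⊥ := by
  have h := std_neg (k := k) (n := s) hn
  change (std k s n).toAddSubgroup = ⊥
  rw [h]
  rfl

theorem X_mem' (i : Fin s) : (X i : MvPolynomial (Fin s) k) ∈ gr k s 1 := X_mem i

theorem C_mem (c : k) : (C c : MvPolynomial (Fin s) k) ∈ gr k s 0 := by
  have h := SetLike.algebraMap_mem_graded (std k s) c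
  exact h

theorem exists_C {p : MvPolynomial (Fin s) k} (hp : p ∈ gr k s 0) : ∃ c : k, C c = p := by
  have h : p ∈ std k s 0 := hp
  rw [std_zero, Submodule.mem_span_singleton] at h
  obtain ⟨c, hc⟩ := h
  exact ⟨c, by rw [← hc, MvPolynomial.smul_eq_C_mul, mul_one]⟩

theorem irr_eq : Ideal.span (⋃ d ∈ Set.Ioi (0 : ℤ), (gr k s d : Set (MvPolynomial (Fin s) k))) =
    Ideal.span (Set.range (X : Fin s → MvPolynomial (Fin s) k)) := irr_eq_span

theorem mem_irr_iff (p : MvPolynomial (Fin s) k) :
    p ∈ Ideal.span (⋃ d ∈ Set.Ioi (0 : ℤ), (gr k s d : Set (MvPolynomial (Fin s) k))) ↔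
      constantCoeff p = 0 := by
  rw [irr_eq, K860.Basic.mem_span_X_iff]

theorem irr_eq_ker : Ideal.span (⋃ d ∈ Set.Ioi (0 : ℤ), (gr k s d : Set (MvPolynomial (Fin s) k))) =
    RingHom.ker (constantCoeff : MvPolynomial (Fin s) k →+* k) := by
  ext p
  rw [mem_irr_iff]
  rfl

theorem isMaximal_irr :
    (Ideal.span (⋃ d ∈ Set.Ioi (0 : ℤ), (gr k s d : Set (MvPolynomial (Fin s) k)))).IsMaximal := by
  rw [irr_eq_ker]
  exact RingHom.ker_isMaximal_of_surjective _ (fun c => ⟨C c, constantCoeff_C _ c⟩)

/-- constants -/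
noncomputable def toDeg0 : k →+* deg0 (gr k s) where
  toFun c := ⟨C c, C_mem k s c⟩
  map_one' := Subtype.ext (map_one _)
  map_mul' a b := Subtype.ext (map_mul _ a b)
  map_zero' := Subtype.ext (map_zero _)
  map_add' a b := Subtype.ext (map_add _ a b)

theorem toDeg0_bijective : Function.Bijective (toDeg0 k s) := by
  constructor
  · intro a b h
    exact C_injective _ _ (congrArg Subtype.val h)
  · rintro ⟨x, hx⟩
    obtain ⟨c, hc⟩ := exists_C k s hx
    exact ⟨c, Subtype.ext hc⟩

theorem isField_deg0 : IsField (deg0 (gr k s)) :=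
  MulEquiv.isField (Field.toIsField k)
    (RingEquiv.ofBijective (toDeg0 k s) (toDeg0_bijective k s)).symm.toMulEquiv

theorem std_gen : Ideal.span (⋃ n ∈ Set.Ioi (0 : ℤ), (gr k s n : Set (MvPolynomial (Fin s) k))) =
    Ideal.span ((gr k s 1 : AddSubgroup (MvPolynomial (Fin s) k)) : Set (MvPolynomial (Fin s) k)) := by
  apply le_antisymm
  · rw [irr_eq, Ideal.span_le]
    rintro _ ⟨i, rfl⟩
    exact Ideal.subset_span (X_mem' k s i)
  · apply Ideal.span_mono
    intro x hx
    simp only [Set.mem_iUnion]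
    exact ⟨1, Set.mem_Ioi.2 one_pos, hx⟩

theorem ringKrullDim_eq : ringKrullDim (MvPolynomial (Fin s) k) = s := by
  rw [MvPolynomial.ringKrullDim_of_isNoetherianRing, ringKrullDim_eq_zero_of_field, zero_add]
  simp

theorem gorenstein : LocCoh.IsGorensteinRing (MvPolynomial (Fin s) k) :=
  Groth.Agent.LoccohB.GorBasic.isGorensteinRing_mvPolynomial
    (Groth.Agent.LoccohB.GorBasic.isGorensteinRing_of_field k) s

/-- the dimension of the pieces -/
theorem finrank_comp (hs : 1 ≤ s) (n : ℕ) :
    Module.finrank (deg0 (gr k s)) (GrLC.comp (gr k s) (gr k s) (n : ℤ)) = (s - 1 + n).choose (s - 1) := by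
  obtain ⟨r, rfl⟩ : ∃ r, s = r + 1 := ⟨s - 1, by omega⟩
  let j : GrSyz.stdGr k (Fin (r + 1)) (n : ℤ) ≃+ GrLC.comp (gr k (r + 1)) (gr k (r + 1)) (n : ℤ) :=
    { toFun := fun x => ⟨x.1, x.2⟩
      invFun := fun x => ⟨x.1, x.2⟩
      left_inv := fun _ => rfl
      right_inv := fun _ => rfl
      map_add' := fun _ _ => rfl }
  have h1 := rank_eq_of_equiv_equiv (toDeg0 k (r + 1)) j (toDeg0_bijective k (r + 1)) (fun c v => Subtype.ext (by
    change ((c • v : GrSyz.stdGr k (Fin (r + 1)) (n : ℤ)) : MvPolynomial (Fin (r + 1)) k) = C c * v.1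
    rw [← MvPolynomial.smul_eq_C_mul]
    rfl))
  have h2 := K860.Basic.finrank_stdGr (k := k) r (n : ℤ)
  rw [if_pos (Int.natCast_nonneg n), Int.toNat_natCast] at h2
  have h3 : Module.finrank k (GrSyz.stdGr k (Fin (r + 1)) (n : ℤ)) = (r + n).choose r := by exact_mod_cast h2
  rw [Nat.add_sub_cancel, ← h3, Module.finrank, Module.finrank, h1]

/-- the homogeneous maximal ideal -/
noncomputable def m : HomogeneousIdeal (gr k s) :=
  ⟨Ideal.span (⋃ d ∈ Set.Ioi (0 : ℤ), (gr k s d : Set (MvPolynomial (Fin s) k))),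
    Ideal.homogeneous_span _ _ fun x hx => by
      simp only [Set.mem_iUnion] at hx
      obtain ⟨d, -, hd⟩ := hx
      exact ⟨d, hd⟩⟩

theorem posField : PosField k (gr k s) (m k s).toIdeal := by
  exact
    { pos := fun n hn x hx => by
        rw [gr_neg k s hn, AddSubgroup.mem_bot] at hx
        exact hx
      alg := fun c => C_mem k s c
      surj := fun x hx => exists_C k s hx
      span := rfl }

theorem constantCoeff_of_mem {n : ℤ} (hn : n ≠ 0) {p : MvPolynomial (Fin s) k} (hp : p ∈ gr k s n) :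
    constantCoeff p = 0 := by
  by_contra h
  apply hn
  rw [← (mem_gr_iff k s).1 hp 0 h]
  simp

theorem constantCoeff_pr (x : MvPolynomial (Fin s) k) :
    constantCoeff (pr (gr k s) 0 x) = constantCoeff x := by
  classical
  obtain ⟨S, hS⟩ := exists_sum_pr (ℳ := gr k s) x
  conv_rhs => rw [← hS, map_sum]
  by_cases h0 : (0 : ℤ) ∈ S
  · rw [Finset.sum_eq_single_of_mem 0 h0 fun i _ hi =>
      constantCoeff_of_mem k s hi (pr_mem (ℳ := gr k s) i x)]
  · have h1 : pr (gr k s) 0 x = 0 := by
      conv_lhs => rw [← hS]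
      rw [pr_sum]
      refine Finset.sum_eq_zero fun i hi => ?_
      exact pr_of_mem_ne (ℳ := gr k s) (pr_mem (ℳ := gr k s) i x) (fun h => h0 (h ▸ hi))
    rw [h1, map_zero]
    symm
    refine Finset.sum_eq_zero fun i hi => ?_
    exact constantCoeff_of_mem k s (fun h => h0 (h ▸ hi)) (pr_mem (ℳ := gr k s) i x)

theorem pr_nat (n : ℕ) (p : MvPolynomial (Fin s) k) : pr (gr k s) n p = homogeneousComponent n p := by
  classical
  have h1 : ∀ i : ℕ, homogeneousComponent i p ∈ gr k s (i : ℤ) := fun i =>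
    (mem_gr_nat k s).2 (homogeneousComponent_mem i p)
  conv_lhs => rw [← sum_homogeneousComponent p]
  rw [pr_sum]
  by_cases hn : n ∈ Finset.range (p.totalDegree + 1)
  · rw [Finset.sum_eq_single_of_mem n hn fun i _ hi =>
      pr_of_mem_ne (ℳ := gr k s) (h1 i) (fun h => hi (by exact_mod_cast h))]
    exact pr_of_mem (ℳ := gr k s) (h1 n)
  · rw [Finset.sum_eq_zero fun i hi =>
      pr_of_mem_ne (ℳ := gr k s) (h1 i) (fun h => hn (by
        have : i = n := by exact_mod_cast h
        exact this ▸ hi))]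
    rw [Finset.mem_range, not_lt] at hn
    exact (homogeneousComponent_eq_zero _ _ (by omega)).symm

theorem isStarLocal : IsStarLocal (gr k s) (m k s) := by
  have hmax : (m k s).toIdeal.IsMaximal := isMaximal_irr k s
  have hco : IsCoatom (m k s) := by
    constructor
    · intro h
      apply hmax.ne_top
      rw [h]
      rfl
    · intro J hJ
      have h1 : (m k s).toIdeal < J.toIdeal := hJ
      exact HomogeneousIdeal.toIdeal_injective (hmax.1.2 _ h1)
  refine ⟨hco, fun n hn => ?_⟩
  have hle : n ≤ m k s := by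
    intro x hx
    change x ∈ Ideal.span _
    rw [mem_irr_iff]
    have h0 : pr (gr k s) 0 x ∈ n.toIdeal := n.isHomogeneous 0 hx
    obtain ⟨c, hc⟩ := exists_C k s (pr_mem (ℳ := gr k s) 0 x)
    by_contra hne
    apply hn.1
    apply HomogeneousIdeal.toIdeal_injective
    have hc0 : c ≠ 0 := by
      rintro rfl
      apply hne
      rw [← constantCoeff_pr, ← hc, constantCoeff_C]
    have hu : IsUnit (pr (gr k s) 0 x) := by
      rw [← hc]
      exact (Ne.isUnit hc0).map C
    exact Ideal.eq_top_of_isUnit_mem _ h0 hu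
  by_contra hne
  exact hco.1 (hn.2 _ (lt_of_le_of_ne hle hne))

/-- the `a`-invariant -/
theorem endDeg_eq (I : StarInjRes (gr k s) (gr k s)) :
    endDeg (I.Hgr (m k s) s) = ((-(s : ℤ) : ℤ) : WithTop ℤ) := by
  have hX : (Ideal.span (Set.range (X : Fin s → MvPolynomial (Fin s) k)) • ⊤ :
      Submodule (MvPolynomial (Fin s) k) (MvPolynomial (Fin s) k)) = (m k s).toIdeal := by
    rw [smul_eq_mul, Ideal.mul_top, ← irr_eq]
    rfl
  have h := K762.AInv.endDeg_eq_iff (k := k) (posField k s) (M := MvPolynomial (Fin s) k) (ℳ := gr k s)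
    (θ := (X : Fin s → MvPolynomial (Fin s) k)) (w := fun _ => (1 : ℤ)) (fun i => X_mem' k s i) (fun _ => one_pos)
    (Groth.Agent.Flat2H.SmoothSection.isWeaklyRegular_X k s) (fun x => ⟨1, fun r hr => by
      rw [pow_one] at hr
      rw [hX, smul_eq_mul]
      exact Ideal.mul_mem_right _ _ hr⟩) I (a := -(s : ℤ))
  refine h.2 ?_
  rw [hX]
  have hsum : -(s : ℤ) + ∑ _i : Fin s, (1 : ℤ) = 0 := by simp
  rw [hsum]
  refine ⟨⟨1, SetLike.one_mem_graded (gr k s), ?_⟩, fun i hi x hx => ?_⟩
  · change (1 : MvPolynomial (Fin s) k) ∉ Ideal.span _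
    rw [mem_irr_iff, map_one]
    exact one_ne_zero
  · exact (posField k s).mem_of_pos hi hx

/-! ### The Veronese subring -/

section Ver

variable (d : ℕ) (hd : 1 ≤ d) (R' : Type u) [CommRing R'] (φ : R' →+* MvPolynomial (Fin s) k)
  (hφ : Function.Injective φ)
  (hrange : ∀ p : MvPolynomial (Fin s) k, p ∈ φ.range ↔
    ∀ j : ℕ, ¬ d ∣ j → homogeneousComponent j p = 0)

/-- the grading of the Veronese subring -/
noncomputable def gr' : ℤ → AddSubgroup R' := fun j => (gr k s (j * d)).comap (φ : R' →+ MvPolynomial (Fin s) k)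

include hrange in
theorem pr_eq_zero (y : R') {i : ℤ} (hi : ¬ (d : ℤ) ∣ i) : pr (gr k s) i (φ y) = 0 := by
  rcases lt_or_ge i 0 with h | h
  · have := pr_mem (ℳ := gr k s) i (φ y)
    rw [gr_neg k s h, AddSubgroup.mem_bot] at this
    exact this
  · obtain ⟨n, rfl⟩ := Int.eq_ofNat_of_zero_le h
    rw [pr_nat]
    exact (hrange (φ y)).1 ⟨y, rfl⟩ n (fun h => hi (by exact_mod_cast h))

include hrange in
theorem mem_range_of_mem {i : ℤ} {p : MvPolynomial (Fin s) k} (hp : p ∈ gr k s (i * d)) : p ∈ φ.range := by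
  rw [hrange]
  intro j hj
  rw [← pr_nat]
  exact pr_of_mem_ne (ℳ := gr k s) hp (fun h => hj (by
    have : (d : ℤ) ∣ (j : ℤ) := h ▸ dvd_mul_left _ _
    exact_mod_cast this))

include hrange in
theorem exists_pre (j : ℤ) (y : R') : ∃ z : R', φ z = pr (gr k s) (j * d) (φ y) :=
  mem_range_of_mem k s d R' φ hrange (pr_mem (ℳ := gr k s) _ _)

/-- the graded ring -/
@[instance_reducible]
noncomputable def gr'Ring : GradedRing (gr' k s d R' φ) := by
  classical
  let π : ℤ → R' → R' := fun j y => (exists_pre k s d R' φ hrange j y).choose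
  have hπ : ∀ j y, φ (π j y) = pr (gr k s) (j * d) (φ y) := fun j y =>
    (exists_pre k s d R' φ hrange j y).choose_spec
  have hd0 : (d : ℤ) ≠ 0 := by exact_mod_cast (by omega : d ≠ 0)
  exact
  { K963.Dec.ofProj (gr' k s d R' φ) π
      (fun j y => by
        change φ (π j y) ∈ gr k s (j * d)
        rw [hπ]
        exact pr_mem (ℳ := gr k s) _ _)
      (fun j x y => hφ (by rw [map_add, hπ, hπ, hπ, map_add, pr_add]))
      (fun i j x hx hij => hφ (by
        rw [hπ, map_zero]
        exact pr_of_mem_ne (ℳ := gr k s) hx (fun h => hij (mul_right_cancel₀ hd0 h))))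
      (fun x => by
        refine ⟨(DFinsupp.support (DirectSum.decompose (gr k s) (φ x))).filter (fun i => (d : ℤ) ∣ i)
          |>.image (· / d), fun j hj => hφ ?_, hφ ?_⟩
        · rw [hπ, map_zero]
          by_contra hne
          apply hj
          rw [Finset.mem_image]
          refine ⟨j * d, ?_, Int.mul_ediv_cancel _ hd0⟩
          rw [Finset.mem_filter, DFinsupp.mem_support_iff]
          exact ⟨fun h => hne (congrArg Subtype.val h), dvd_mul_left _ _⟩
        · rw [map_sum, Finset.sum_image]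
          · rw [Finset.sum_congr rfl (g := fun i => pr (gr k s) i (φ x)) (fun i hi => by
              rw [hπ, Int.ediv_mul_cancel (Finset.mem_filter.1 hi).2])]
            rw [Finset.sum_filter_of_ne]
            · exact (DirectSum.sum_support_decompose (gr k s) (φ x)).symm
            · intro i _ hi
              by_contra h
              exact hi (pr_eq_zero k s d R' φ hrange x h)
          · intro a ha b hb hab
            have h1 := (Finset.mem_filter.1 ha).2
            have h2 := (Finset.mem_filter.1 hb).2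
            rw [← Int.ediv_mul_cancel h1, ← Int.ediv_mul_cancel h2]
            exact congrArg (· * (d : ℤ)) hab) with
    one_mem := by
      change φ 1 ∈ gr k s (0 * d)
      rw [map_one, zero_mul]
      exact SetLike.one_mem_graded (gr k s)
    mul_mem := fun i j a b ha hb => by
      change φ (a * b) ∈ gr k s ((i + j) * d)
      rw [map_mul, add_mul]
      exact SetLike.mul_mem_graded (A := gr k s) ha hb }

theorem mem_gr' {j : ℤ} {y : R'} : y ∈ gr' k s d R' φ j ↔ φ y ∈ gr k s (j * d) := Iff.rfl

include hrange in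
theorem map_gr' (j : ℤ) : (gr' k s d R' φ j).map (φ : R' →+ MvPolynomial (Fin s) k) = gr k s (j * d) := by
  ext p
  constructor
  · rintro ⟨y, hy, rfl⟩
    exact hy
  · intro hp
    obtain ⟨y, rfl⟩ := mem_range_of_mem k s d R' φ hrange hp
    exact ⟨y, hp, rfl⟩

include hd hφ hrange in
theorem ker_eq : Ideal.comap φ (RingHom.ker (constantCoeff : MvPolynomial (Fin s) k →+* k)) =
    Ideal.span (⋃ j ∈ Set.Ioi (0 : ℤ), (gr' k s d R' φ j : Set R')) := by
  let := gr'Ring k s d hd R' φ hφ hrange
  apply le_antisymm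
  · intro x hx
    have hx0 : constantCoeff (φ x) = 0 := hx
    obtain ⟨S, hS⟩ := exists_sum_pr (ℳ := gr' k s d R' φ) x
    rw [← hS]
    refine sum_mem fun i _ => ?_
    have hi := pr_mem (ℳ := gr' k s d R' φ) i x
    rcases lt_trichotomy i 0 with h | rfl | h
    · have h1 : φ (pr (gr' k s d R' φ) i x) = 0 := by
        have h2 := (mem_gr' k s d R' φ).1 hi
        rw [gr_neg k s (mul_neg_of_neg_of_pos h (by exact_mod_cast hd)), AddSubgroup.mem_bot] at h2
        exact h2
      rw [(map_eq_zero_iff φ hφ).1 h1]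
      exact zero_mem _
    · have h2 : φ (pr (gr' k s d R' φ) 0 x) = pr (gr k s) 0 (φ x) := by
        conv_rhs => rw [← hS, map_sum, pr_sum]
        by_cases h0 : (0 : ℤ) ∈ S
        · rw [Finset.sum_eq_single_of_mem 0 h0]
          · have h3 := (mem_gr' k s d R' φ).1 hi
            rw [zero_mul] at h3
            exact (pr_of_mem (ℳ := gr k s) h3).symm
          · intro b _ hb
            have h3 := (mem_gr' k s d R' φ).1 (pr_mem (ℳ := gr' k s d R' φ) b x)
            exact pr_of_mem_ne (ℳ := gr k s) h3 (fun h => hb (by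
              rcases mul_eq_zero.1 h with h | h
              · exact h
              · exact absurd h (by exact_mod_cast (by omega : d ≠ 0))))
        · have h4 : pr (gr' k s d R' φ) 0 x = 0 := by
            conv_lhs => rw [← hS]
            rw [pr_sum]
            refine Finset.sum_eq_zero fun i hi => ?_
            exact pr_of_mem_ne (ℳ := gr' k s d R' φ) (pr_mem (ℳ := gr' k s d R' φ) i x)
              (fun h => h0 (h ▸ hi))
          rw [h4, map_zero]
          symm
          refine Finset.sum_eq_zero fun b hb => ?_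
          have h3 := (mem_gr' k s d R' φ).1 (pr_mem (ℳ := gr' k s d R' φ) b x)
          exact pr_of_mem_ne (ℳ := gr k s) h3 (fun h => h0 (by
              rcases mul_eq_zero.1 h with h | h
              · exact h ▸ hb
              · exact absurd h (by exact_mod_cast (by omega : d ≠ 0))))
      obtain ⟨c, hc⟩ := exists_C k s (pr_mem (ℳ := gr k s) 0 (φ x))
      rw [← constantCoeff_pr, ← hc, constantCoeff_C] at hx0
      rw [← hc, hx0, map_zero] at h2
      rw [(map_eq_zero_iff φ hφ).1 h2]
      exact zero_mem _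
    · refine Ideal.subset_span ?_
      simp only [Set.mem_iUnion]
      exact ⟨i, h, hi⟩
  · rw [Ideal.span_le]
    intro x hx
    simp only [Set.mem_iUnion] at hx
    obtain ⟨j, hj, hx⟩ := hx
    have hj' : 0 < j := hj
    change constantCoeff (φ x) = 0
    exact constantCoeff_of_mem k s (mul_ne_zero hj'.ne' (by exact_mod_cast (by omega : d ≠ 0)))
      ((mem_gr' k s d R' φ).1 hx)

end Ver

end K82.VerPoly
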